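import Groth.Agent.SBAbsSplitLib.Main
import Groth.Agent.KHeartLib.Classes
import Groth.Agent.VBResLib.KPull

/-! The Grothendieck group of bundles on a Severi–Brauer variety. -/

set_option autoImplicit false
set_option linter.style.haveILetI false
set_option linter.unusedSectionVars false
set_option maxHeartbeats 1000000
universe u

noncomputable section

open CategoryTheory CategoryTheory.Limits AlgebraicGeometry
open W4c1astiltbs12 (pow)
open KFlatLib (pb puSec)
open GLinBCLib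

namespace SBK0

attribute [local instance] Abelian.hasFiniteBiproducts

variable {k : Type u} [Field k] {X : Scheme.{u}} (f : X ⟶ Spec (CommRingCat.of k)) [IsProper f]
  (K : Type u) [Field K] [Algebra k K] {m : ℕ} (e : BrSev.Splitting f K m)

local notation "VB" => fun M : X.Modules => FlatMod.IsFinLocFree M

/-- The projection from projective space. -/
abbrev prP : CohB1.ProjSpace m K ⟶ X := e.iso.inv ≫ BrSev.proj f K

/-- The model on projective space. -/
abbrev mdl (M : X.Modules) : (CohB1.ProjSpace m K).Modules := pb (prP f K e) M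

/-- Projective space as a base change. -/
def bcP : BC k K X (CohB1.ProjSpace m K) where
  g := prP f K e
  iX := f
  iY := CohB1.ProjSpace.toSpec m K
  sq := IsPullback.of_iso (IsPullback.of_hasPullback f (Spec.map (CommRingCat.ofHom (algebraMap k K))))
    e.iso (Iso.refl _) (Iso.refl _) (Iso.refl _) (by simp [prP]) (by simp [e.comm]) (by simp) (by simp)

theorem nonempty_mdl_of_isTwPow {W : X.Modules} {c : ℤ} {r : ℕ} (h : BrSev.IsTwPow e c r W) :
    Nonempty (mdl f K e W ≅ pow (Twist.twistProjSpace m K c) r) := by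
  obtain ⟨t⟩ := h
  exact ⟨((Scheme.Modules.pullbackComp e.iso.inv (BrSev.proj f K)).app W).symm ≪≫
    (Scheme.Modules.pullback e.iso.inv).mapIso t ≪≫ PreservesCoproduct.iso (Scheme.Modules.pullback e.iso.inv) _ ≪≫
    Sigma.mapIso fun _ => (Scheme.Modules.pullbackComp e.iso.inv e.iso.hom).app _ ≪≫
        (Scheme.Modules.pullbackCongr e.iso.inv_hom_id).app _ ≪≫ (Scheme.Modules.pullbackId _).app _⟩

theorem isTwPow_split_of_mdl {E : X.Modules} {s : ℕ} {a : Fin s → ℤ}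
    (u : mdl f K e E ≅ ∐ fun i => Twist.twistProjSpace m K (a i)) :
    Nonempty (BrSev.bcMod f K E ≅ ∐ fun i => e.twist (a i)) :=
  ⟨((Scheme.Modules.pullbackCongr (show e.iso.hom ≫ prP f K e = BrSev.proj f K by simp [prP])).app E).symm ≪≫
    ((Scheme.Modules.pullbackComp e.iso.hom (prP f K e)).app E).symm ≪≫
    (Scheme.Modules.pullback e.iso.hom).mapIso u ≪≫ PreservesCoproduct.iso (Scheme.Modules.pullback e.iso.hom) _⟩

theorem epi_of_mdl {A B : X.Modules} [Coh.IsQCoh A] [Coh.IsQCoh B] (φ : A ⟶ B)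
    [Epi ((Scheme.Modules.pullback (prP f K e)).map φ)] : Epi φ := by
  let P := Scheme.Modules.pullback (prP f K e)
  haveI : Coh.IsQCoh (cokernel φ) := QCohLib.isQCoh_cokernel φ
  have hz : IsZero (P.obj (cokernel φ)) := by
    refine (IsZero.iff_id_eq_zero _).2 ?_
    have h1 : P.map φ ≫ P.map (cokernel.π φ) = 0 := by rw [← P.map_comp, cokernel.condition, P.map_zero]
    have h2 : P.map (cokernel.π φ) = 0 := (cancel_epi (P.map φ)).1 (h1.trans comp_zero.symm)
    haveI : Epi (P.map (cokernel.π φ)) := inferInstance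
    exact (cancel_epi (P.map (cokernel.π φ))).1 (by rw [h2, zero_comp, zero_comp])
  have h0 := KSMod.isZero_of_isZero_pb (bcP f K e) hz
  exact Preadditive.epi_of_cokernel_zero (h0.eq_of_tgt _ _)

/-- Membership of the class of a bundle in a subgroup. -/
def Mem (S : AddSubgroup (KZero.K0sub VB)) (M : X.Modules) : Prop :=
  FlatMod.IsFinLocFree M ∧ KZero.clSub VB M ∈ S

theorem mem_biproduct [IsLocallyNoetherian X] (S : AddSubgroup (KZero.K0sub VB)) : ∀ {t : ℕ} (Ms : Fin t → X.Modules),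
    (∀ i, Mem S (Ms i)) → ∀ {M : X.Modules}, (M ≅ ⨁ Ms) → Mem S M
  | 0, Ms, _, M, e => by
    have hz : IsZero M := (KSMod.isZero_of_isEmpty Ms).of_iso e
    refine ⟨VBResLib.vb_of_isZero hz, ?_⟩
    rw [Groth.Agent.KHeartLib.clSub_eq_zero (P := VB) (VBResLib.vb_of_isZero hz) hz]
    exact S.zero_mem
  | t + 1, Ms, h, M, e => by
    obtain ⟨hB, hBc⟩ := mem_biproduct S (Ms ∘ (0 : Fin (t + 1)).succAbove) (fun i => h _) (Iso.refl _)
    let g := e ≪≫ KSMod.splitOff Ms 0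
    let A := Ms 0
    let B := ⨁ (Ms ∘ (0 : Fin (t + 1)).succAbove)
    let σ : ShortComplex X.Modules := ShortComplex.mk (biprod.inl ≫ g.inv : A ⟶ M) (g.hom ≫ biprod.snd : M ⟶ B)
      (by rw [Category.assoc, Iso.inv_hom_id_assoc]; exact biprod.inl_snd)
    have hσ : σ.ShortExact := ShortComplex.Splitting.shortExact
      { r := g.hom ≫ biprod.fst
        s := biprod.inr ≫ g.inv
        f_r := by simp only [σ, Category.assoc, Iso.inv_hom_id_assoc]; exact biprod.inl_fst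
        s_g := by simp only [σ, Category.assoc, Iso.inv_hom_id_assoc]; exact biprod.inr_snd
        id := by
          simp only [σ, Category.assoc]
          refine Eq.trans ?_ g.hom_inv_id
          rw [← Preadditive.comp_add, ← Category.assoc biprod.fst, ← Category.assoc biprod.snd, ← Preadditive.add_comp]
          refine congrArg (g.hom ≫ ·) ?_
          refine Eq.trans ?_ (Category.id_comp _)
          exact congrArg (· ≫ g.inv) biprod.total }
    have hM : FlatMod.IsFinLocFree M :=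
      Groth.Agent.PerfLib.isFinLocFree_of_iso g.symm (Groth.Agent.PerfLib.isFinLocFree_biprod (h 0).1 hB)
    refine ⟨hM, ?_⟩
    rw [show KZero.clSub VB M = KZero.clSub VB σ.X₂ from rfl,
      Groth.Agent.KHeartLib.clSub_add VB σ hσ (h 0).1 hM hB]
    exact S.add_mem (h 0).2 hBc

/-- The classes of indecomposables of nonpositive type. -/
def gens : AddSubgroup (KZero.K0sub VB) :=
  AddSubgroup.closure {c | ∃ (W : X.Modules) (j : ℕ) (r : ℕ), FlatMod.IsFinLocFree W ∧
    (¬ IsZero W ∧ ∀ M₁ M₂ : X.Modules, Nonempty (W ≅ M₁ ⊞ M₂) → IsZero M₁ ∨ IsZero M₂) ∧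
    0 < r ∧ BrSev.IsTwPow e (-(j : ℤ)) r W ∧ c = KZero.clSub VB W}

theorem mem_gens_of {W : X.Modules} (j : ℕ) {r : ℕ} (hW : FlatMod.IsFinLocFree W)
    (hi : ¬ IsZero W ∧ ∀ M₁ M₂ : X.Modules, Nonempty (W ≅ M₁ ⊞ M₂) → IsZero M₁ ∨ IsZero M₂) (hr : 0 < r)
    (ht : BrSev.IsTwPow e (-(j : ℤ)) r W) : Mem (gens f K e) W :=
  ⟨hW, AddSubgroup.subset_closure ⟨W, j, r, hW, hi, hr, ht, rfl⟩⟩

local notation "O'" => Twist.twistProjSpace m K
local notation "T" => CurvLib.tensorLeft'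
local notation "PP" => CohB1.ProjSpace m K

/-- No sections in negative degrees. -/
def Neg (F : X.Modules) : Prop :=
  ∀ t : ℤ, t < 0 → Subsingleton (Coh.HH PP ((T (O' t)).obj (mdl f K e F)) 0)

/-- Middle cohomology vanishes up to a degree. -/
def Van (j : ℕ) (F : X.Modules) : Prop :=
  ∀ (t : ℤ) (i : ℕ), 1 ≤ i → i ≤ j → i < m → Subsingleton (Coh.HH PP ((T (O' t)).obj (mdl f K e F)) i)

variable [IsAlgClosure k K]
  (hI : ∀ c : ℤ, ∃ (W : X.Modules) (r : ℕ), FlatMod.IsFinLocFree W ∧ KSMod.Indec W ∧ 0 < r ∧ BrSev.IsTwPow e c r W)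

include hI in
/-- Maps from nonpositive twists are realized over the base. -/
theorem exists_cover {F : X.Modules} (hF : FlatMod.IsFinLocFree F) {r : ℕ} (d : Fin r → ℤ)
    (g : ∀ j, O' (-d j) ⟶ mdl f K e F) (hd : ∀ j, d j < 0 → g j = 0) :
    ∃ (Q : X.Modules) (φ : Q ⟶ F) (q : ℕ) (c : Fin q → ℤ) (h : (⨁ fun j => O' (-d j)) ⟶ mdl f K e Q),
      Mem (gens f K e) Q ∧ (∀ i, 0 ≤ c i) ∧
      Nonempty (mdl f K e Q ≅ ⨁ fun i => O' (-c i)) ∧
      h ≫ (Scheme.Modules.pullback (prP f K e)).map φ = biproduct.desc g := by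
  classical
  let β := bcP f K e
  letI : X.Over (Spec (CommRingCat.of k)) := ⟨f⟩
  haveI : IsProper (X ↘ Spec (CommRingCat.of k)) := ‹IsProper f›
  haveI := CurvLib.isNoetherian k (X := X)
  let P := Scheme.Modules.pullback (prP f K e)
  have hFc := Groth.Agent.PerfLib.isCoh_of_isFinLocFree hF
  let ι₀ := {j : Fin r // 0 ≤ d j}
  choose W rk hW hWi hrk hWt using fun j : ι₀ => hI (-d j.1)
  have hWc := fun j => Groth.Agent.PerfLib.isCoh_of_isFinLocFree (hW j)
  haveI := fun j => KSMod.finite_hom (k := k) (hWc j) hFc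
  let b := fun j : ι₀ => Module.finBasis k (W j ⟶ F)
  let ι₁ := Σ j : ι₀, Fin (Module.finrank k (W j ⟶ F))
  let q₀ := (Fintype.equivFin ι₁).symm
  let Ms : Fin (Fintype.card ι₁) → X.Modules := fun i => W (q₀ i).1
  let φ : (⨁ Ms) ⟶ F := biproduct.desc fun i => b (q₀ i).1 (q₀ i).2
  have hfac : ∀ j : Fin r, ∃ h : O' (-d j) ⟶ mdl f K e (⨁ Ms), h ≫ P.map φ = g j := by
    intro j
    by_cases hj : 0 ≤ d j
    · let j₀ : ι₀ := ⟨j, hj⟩
      obtain ⟨b', hb'⟩ := SBTw.exists_basis β rfl (hY := rfl) (hWc j₀) hFc (b j₀)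
      obtain ⟨u⟩ := nonempty_mdl_of_isTwPow f K e (hWt j₀)
      let i₀ : Fin (rk j₀) := ⟨0, hrk j₀⟩
      let s : O' (-d j) ⟶ mdl f K e (W j₀) := Sigma.ι (fun _ : Fin (rk j₀) => O' (-d j)) i₀ ≫ u.inv
      let p : mdl f K e (W j₀) ⟶ O' (-d j) := u.hom ≫ Sigma.desc fun _ : Fin (rk j₀) => 𝟙 (O' (-d j))
      have hsp : s ≫ p = 𝟙 _ := by
        simp only [s, p, Category.assoc, Iso.inv_hom_id_assoc]
        exact Sigma.ι_desc (fun _ : Fin (rk j₀) => 𝟙 (O' (-d j))) i₀
      have hin : ∀ a, ∃ h : mdl f K e (W j₀) ⟶ mdl f K e (⨁ Ms), h ≫ P.map φ = P.map (b j₀ a) := fun a => by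
        obtain ⟨i, hi⟩ := q₀.surjective ⟨j₀, a⟩
        have : ∃ h : W j₀ ⟶ ⨁ Ms, h ≫ φ = b j₀ a := by
          have key : ∀ (x : ι₁), (∃ i, q₀ i = x) → ∃ h : W x.1 ⟶ ⨁ Ms, h ≫ φ = b x.1 x.2 := by
            rintro x ⟨i, rfl⟩
            exact ⟨biproduct.ι Ms i, biproduct.ι_desc _ _⟩
          exact key ⟨j₀, a⟩ ⟨i, hi⟩
        obtain ⟨h, hh⟩ := this
        exact ⟨P.map h, by rw [← P.map_comp, hh]⟩
      choose hh hhh using hin
      let c := b'.repr (p ≫ g j)
      refine ⟨s ≫ ∑ a, c a • hh a, ?_⟩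
      have h1 : (∑ a, c a • hh a) ≫ P.map φ = p ≫ g j := by
        rw [Preadditive.sum_comp]
        refine Eq.trans (Finset.sum_congr rfl fun a _ => ?_) (b'.sum_repr (p ≫ g j))
        rw [Linear.smul_comp, hhh, hb']
        rfl
      rw [Category.assoc, h1, ← Category.assoc, hsp, Category.id_comp]
    · exact ⟨0, by rw [zero_comp, hd j (lt_of_not_ge hj)]⟩
  choose hh hhh using hfac
  have hmem : ∀ i, Mem (gens f K e) (Ms i) := fun i => by
    refine mem_gens_of f K e (d (q₀ i).1.1).toNat (hW (q₀ i).1) (hWi (q₀ i).1) (hrk (q₀ i).1) ?_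
    rw [Int.toNat_of_nonneg (q₀ i).1.2]
    exact hWt _
  have us := fun i => Classical.choice (nonempty_mdl_of_isTwPow f K e (hWt (q₀ i).1))
  haveI : PreservesFiniteBiproducts P := ⟨Limits.preservesBiproductsOfShape_of_preservesProductsOfShape P⟩
  let ι₂ := Σ i : Fin (Fintype.card ι₁), Fin (rk (q₀ i).1)
  let q₂ := (Fintype.equivFin ι₂).symm
  refine ⟨⨁ Ms, φ, Fintype.card ι₂, fun i => d (q₀ (q₂ i).1).1.1, biproduct.desc hh,
    mem_biproduct _ Ms hmem (Iso.refl _), fun i => (q₀ (q₂ i).1).1.2, ⟨?_⟩,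
    biproduct.hom_ext' _ _ fun j => by rw [biproduct.ι_desc_assoc, hhh, biproduct.ι_desc]⟩
  exact P.mapIso (biproduct.isoCoproduct Ms) ≪≫ PreservesCoproduct.iso P Ms ≪≫ Sigma.mapIso (fun i => us i) ≪≫
    sigmaSigmaIso (fun i => Fin (rk (q₀ i).1)) (fun i _ => O' (-d (q₀ i).1.1)) ≪≫
    Sigma.whiskerEquiv (f := fun x : ι₂ => O' (-d (q₀ x.1).1.1)) (g := fun i => O' (-d (q₀ (q₂ i).1).1.1)) q₂.symm
      (fun x => eqToIso (by rw [Equiv.apply_symm_apply])) ≪≫
    (biproduct.isoCoproduct _).symm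

/-- The kernel of a cover. -/
theorem exists_kernel {Q F : X.Modules} (φ : Q ⟶ F) [Epi φ] (hQ : Mem (gens f K e) Q) (hF : FlatMod.IsFinLocFree F) :
    ∃ (F₁ : X.Modules) (ι : F₁ ⟶ Q) (w : ι ≫ φ = 0), FlatMod.IsFinLocFree F₁ ∧
      (Mem (gens f K e) F₁ → Mem (gens f K e) F) ∧
      ∀ t, (((ShortComplex.mk ι φ w).map (Scheme.Modules.pullback (prP f K e))).map (T (O' t))).ShortExact := by
  haveI : IsLocallyNoetherian X := LocallyOfFiniteType.isLocallyNoetherian f
  have hS : (ShortComplex.mk (kernel.ι φ) φ (kernel.condition φ)).ShortExact :=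
    ShortComplex.ShortExact.mk (ShortComplex.exact_kernel φ)
  have hQc := Groth.Agent.PerfLib.isCoh_of_isFinLocFree hQ.1
  have hFc := Groth.Agent.PerfLib.isCoh_of_isFinLocFree hF
  haveI := hFc.1
  have hKc : Coh.IsCoh (kernel φ) := QCohLib.isCoh_kernel φ hQc hFc.1
  have hK : FlatMod.IsFinLocFree (kernel φ) := VBResLib.vb_of_pd_zero hKc fun x =>
    VBResLib.PdAt.ker hS (d := 1) (VBResLib.pdAt_of_vb hQ.1 x 0) (VBResLib.pdAt_of_vb hF x 1)
  refine ⟨kernel φ, kernel.ι φ, kernel.condition φ, hK, fun h => ⟨hF, ?_⟩, fun t => ?_⟩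
  · have h1 := Groth.Agent.KHeartLib.clSub_add VB _ hS hK hQ.1 hF
    have h2 := eq_sub_iff_add_eq'.2 h1.symm
    exact h2 ▸ (gens f K e).sub_mem hQ.2 h.2
  · exact HilbPolyLib.shortExact_tensor (PicPnLib.twist_inv m K t) (VBResLib.shortExact_pullback_of_vb _ hS hF)

theorem subsingleton_twists {q : ℕ} {c : Fin q → ℤ} {G : (CohB1.ProjSpace m K).Modules}
    (u : G ≅ ⨁ fun i => O' (-c i)) (t : ℤ) (i : ℕ)
    (h : ∀ j, ¬ (i = 0 ∧ 0 ≤ t + -c j) ∧ ¬ (i = m ∧ t + -c j ≤ -((m : ℤ) + 1))) :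
    Subsingleton (Coh.HH PP ((T (O' t)).obj G) i) :=
  SerreVanLib.subsingleton_HH_of_iso ((T (O' t)).mapIso u) i (PnCohLib.lift_twist_biproduct K c t i h)

theorem neg_kernel (hm : 1 ≤ m) {F₁ Q F : X.Modules} {ι : F₁ ⟶ Q} {φ : Q ⟶ F} {w : ι ≫ φ = 0}
    (hS : ∀ t, (((ShortComplex.mk ι φ w).map (Scheme.Modules.pullback (prP f K e))).map (T (O' t))).ShortExact)
    {q : ℕ} {c : Fin q → ℤ} (hc : ∀ i, 0 ≤ c i) (u : mdl f K e Q ≅ ⨁ fun i => O' (-c i)) : Neg f K e F₁ := by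
  intro t ht
  haveI : Subsingleton (Coh.HH PP ((((ShortComplex.mk ι φ w).map (Scheme.Modules.pullback (prP f K e))).map
      (T (O' t))).X₂) 0) :=
    subsingleton_twists K u t 0 fun j => ⟨fun h => by have := hc j; omega, fun h => by omega⟩
  exact (CurvLib.injective₀ (k := K) (hS t)).subsingleton

theorem van_kernel {F₁ Q F : X.Modules} {ι : F₁ ⟶ Q} {φ : Q ⟶ F} {w : ι ≫ φ = 0}
    (hS : ∀ t, (((ShortComplex.mk ι φ w).map (Scheme.Modules.pullback (prP f K e))).map (T (O' t))).ShortExact)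
    {q : ℕ} {c : Fin q → ℤ} (u : mdl f K e Q ≅ ⨁ fun i => O' (-c i))
    (hlift : ∀ t, PnCohLib.Lift K ((Scheme.Modules.pullback (prP f K e)).map φ) t) {j : ℕ} (h : Van f K e j F) :
    Van f K e (j + 1) F₁ := by
  intro t i hi hij him
  haveI : Subsingleton (Coh.HH PP ((((ShortComplex.mk ι φ w).map (Scheme.Modules.pullback (prP f K e))).map
      (T (O' t))).X₂) i) :=
    subsingleton_twists K u t i fun l => ⟨fun h => by omega, fun h => by omega⟩
  obtain ⟨p, rfl⟩ : ∃ p, i = p + 1 := ⟨i - 1, by omega⟩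
  refine (PnCohLib.injective_succ_of_surjective (k := K) (hS t) p ?_).subsingleton
  rcases Nat.eq_zero_or_pos p with rfl | hp
  · intro x
    obtain ⟨a, ha⟩ := hlift t (DegPullLib.e0 _ x)
    exact ⟨(DegPullLib.e0 _).symm a, (DegPullLib.e0 _).injective (by
      rw [PnCohLib.e0_map, AddEquiv.apply_symm_apply]; exact ha)⟩
  · intro x
    haveI : Subsingleton (Coh.HH PP ((((ShortComplex.mk ι φ w).map (Scheme.Modules.pullback (prP f K e))).map
      (T (O' t))).X₃) p) := h t p (by omega) (by omega) (by omega)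
    exact ⟨0, Subsingleton.elim _ _⟩

include hI in
/-- Bundles reduce to ones without middle cohomology. -/
theorem reduce_step (hm : 1 ≤ m) {F : X.Modules} (hF : FlatMod.IsFinLocFree F) (hneg : Neg f K e F) {j : ℕ}
    (hvan : Van f K e j F) :
    ∃ F₁, FlatMod.IsFinLocFree F₁ ∧ Neg f K e F₁ ∧ Van f K e (j + 1) F₁ ∧
      (Mem (gens f K e) F₁ → Mem (gens f K e) F) := by
  classical
  haveI : IsLocallyNoetherian X := LocallyOfFiniteType.isLocallyNoetherian f
  have hFc : Coh.IsCoh (mdl f K e F) :=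
    ConsLib.isCoh_pullback _ (Groth.Agent.PerfLib.isCoh_of_isFinLocFree hF)
  obtain ⟨m₀, hm₀⟩ := PnCohLib.exists_regular K _ hFc
  obtain ⟨r, d, g, -, hg⟩ := PnCohLib.exists_lift_all K _ hFc m₀ hm₀
    ⟨-1, fun t ht => SerreVanLib.subsingleton_HH_of_iso (HilbPolyLib.swapIso (mdl f K e F) _) 0 (hneg t (by omega))⟩
  have hg0 : ∀ i, d i < 0 → g i = 0 := fun i hi => by
    refine PnCohLib.eq_zero_of_map K (d i) (g i) ?_
    haveI := hneg (d i) hi
    haveI := (DegPullLib.e0 ((T (O' (d i))).obj (mdl f K e F))).symm.injective.subsingleton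
    obtain ⟨a⟩ := PicPnLib.twist_add m K (d i) (-d i)
    obtain ⟨b⟩ := PicPnLib.twist_zero m K
    exact PnCohLib.eq_zero_conj _ (a ≪≫ eqToIso (by rw [add_neg_cancel]) ≪≫ b) (Iso.refl _)
      (PnCohLib.hom_unit_eq_zero _ (Subsingleton.elim _ _))
  obtain ⟨Q, φ, q, c, h, hQ, hc, ⟨u⟩, hh⟩ := exists_cover f K e hI hF d g hg0
  have hlift : ∀ t, PnCohLib.Lift K ((Scheme.Modules.pullback (prP f K e)).map φ) t := fun t =>
    PnCohLib.lift_of_comp K h _ t (hh ▸ hg t)
  haveI := PnCohLib.epi_of_lift K _ hFc m₀ (hm₀ m₀ le_rfl) _ (hlift m₀)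
  haveI := (Groth.Agent.PerfLib.isCoh_of_isFinLocFree hQ.1).1
  haveI := (Groth.Agent.PerfLib.isCoh_of_isFinLocFree hF).1
  haveI := epi_of_mdl f K e φ
  obtain ⟨F₁, ι, w, hF₁, hmem, hS⟩ := exists_kernel f K e φ hQ hF
  exact ⟨F₁, hF₁, neg_kernel f K e hm hS hc u, van_kernel f K e hS u hlift hvan, hmem⟩

include hI in
/-- The first step: only an epimorphism is needed. -/
theorem reduce_first (hm : 1 ≤ m) {F : X.Modules} (hF : FlatMod.IsFinLocFree F) :
    ∃ F₁, FlatMod.IsFinLocFree F₁ ∧ Neg f K e F₁ ∧ (Mem (gens f K e) F₁ → Mem (gens f K e) F) := by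
  haveI : IsLocallyNoetherian X := LocallyOfFiniteType.isLocallyNoetherian f
  have hFc : Coh.IsCoh (mdl f K e F) :=
    ConsLib.isCoh_pullback _ (Groth.Agent.PerfLib.isCoh_of_isFinLocFree hF)
  obtain ⟨m₀, hm₀⟩ := PnCohLib.exists_regular K _ hFc
  let M := max m₀ 0
  obtain ⟨b, g, hg⟩ := PnCohLib.exists_lift_at K _ hFc M
  obtain ⟨Q, φ, q, c, h, hQ, hc, ⟨u⟩, hh⟩ := exists_cover f K e hI hF (fun _ : Fin b => M) g
    (fun _ hi => absurd hi (not_lt.2 (le_max_right _ _)))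
  have hlift : PnCohLib.Lift K ((Scheme.Modules.pullback (prP f K e)).map φ) M :=
    PnCohLib.lift_of_comp K h _ M (hh ▸ hg)
  haveI := PnCohLib.epi_of_lift K _ hFc M (hm₀ M (le_max_left _ _)) _ hlift
  haveI := (Groth.Agent.PerfLib.isCoh_of_isFinLocFree hQ.1).1
  haveI := (Groth.Agent.PerfLib.isCoh_of_isFinLocFree hF).1
  haveI := epi_of_mdl f K e φ
  obtain ⟨F₁, ι, w, hF₁, hmem, hS⟩ := exists_kernel f K e φ hQ hF
  exact ⟨F₁, hF₁, neg_kernel f K e hm hS hc u, hmem⟩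

variable (hex : ∃ d : ℕ, 0 < d ∧ ∀ j : ℤ, ∃ M : X.Modules, FlatMod.IsFinLocFree M ∧ BrSev.IsTwPow e j d M)

include hI hex in
/-- All bundles are in the subgroup. -/
theorem mem_gens {F : X.Modules} (hF : FlatMod.IsFinLocFree F) : Mem (gens f K e) F := by
  haveI : IsLocallyNoetherian X := LocallyOfFiniteType.isLocallyNoetherian f
  have hvb : ∀ {E : X.Modules}, FlatMod.IsFinLocFree E → FlatMod.IsFinLocFree (mdl f K e E) :=
    fun {E} hE => CohCmpLib.isFinLocFree_pb (prP f K e) hE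
  rcases Nat.eq_zero_or_pos m with rfl | hm
  · haveI := HorrocksPn.subsingleton_point (k := K) (n := 0) rfl
    haveI : IsIntegral (CohB1.ProjSpace 0 K) := PicPnLib.isIntegral_projSpace 0 K
    obtain ⟨U, r, hU, hφ⟩ := hvb hF (genericPoint (CohB1.ProjSpace 0 K))
    obtain ⟨ψ⟩ := HorrocksPn.free_of_subsingleton (genericPoint (CohB1.ProjSpace 0 K)) ⟨U, hU, hφ⟩
    obtain ⟨b⟩ := PicPnLib.twist_zero 0 K
    obtain ⟨v⟩ := isTwPow_split_of_mdl f K e (a := fun _ : Fin r => 0) (ψ ≪≫ Sigma.mapIso fun _ => b.symm)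
    obtain ⟨t, Ms, js, rs, hMs, ⟨w⟩⟩ := KSMod.absSplit_decomp e hex hF _ (fun _ => KSMod.isInvertible_twist e _) v
    refine mem_biproduct _ Ms (fun i => mem_gens_of f K e 0 (hMs i).1 (hMs i).2.1 (hMs i).2.2.1 ?_)
      (w ≪≫ (biproduct.isoCoproduct _).symm)
    obtain ⟨u⟩ := (hMs i).2.2.2
    obtain ⟨z⟩ := SBTaut.twist_trivial_zero (K := K) (js i)
    exact ⟨u ≪≫ Sigma.mapIso fun _ => (Scheme.Modules.pullback e.iso.hom).mapIso
      (z ≪≫ eqToIso (by simp))⟩
  · obtain ⟨F₁, hF₁, hneg₁, hmem₁⟩ := reduce_first f K e hI hm hF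
    refine hmem₁ ?_
    suffices ∀ (q : ℕ) (G : X.Modules), FlatMod.IsFinLocFree G → Neg f K e G → ∀ j, m ≤ j + 1 + q →
        Van f K e j G → Mem (gens f K e) G from
      this m F₁ hF₁ hneg₁ 0 (by omega) fun t i h1 h2 _ => absurd h2 (by omega)
    intro q
    induction q with
    | zero =>
      intro G hG hneg j hj hvan
      obtain ⟨s, a, ⟨u⟩⟩ := HorrocksPn.exists_split hm (hvb hG) fun t i hi hin =>
        SerreVanLib.subsingleton_HH_of_iso (HilbPolyLib.swapIso _ _) i (hvan t i hi (by omega) hin)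
      obtain ⟨v⟩ := isTwPow_split_of_mdl f K e u
      obtain ⟨t, Ms, js, rs, hMs, ⟨w⟩⟩ := KSMod.absSplit_decomp e hex hG _ (fun _ => KSMod.isInvertible_twist e _) v
      refine mem_biproduct _ Ms (fun i => mem_gens_of f K e (-js i).toNat (hMs i).1 (hMs i).2.1 (hMs i).2.2.1 ?_)
        (w ≪≫ (biproduct.isoCoproduct _).symm)
      suffices hle : js i ≤ 0 by
        rw [Int.toNat_of_nonneg (by omega), neg_neg]
        exact (hMs i).2.2.2
      by_contra hpos
      obtain ⟨ui⟩ := nonempty_mdl_of_isTwPow f K e (hMs i).2.2.2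
      let i₀ : Fin (rs i) := ⟨0, (hMs i).2.2.1⟩
      let p := T (O' (-js i))
      let P := Scheme.Modules.pullback (prP f K e)
      let inI : O' (js i) ⟶ mdl f K e G :=
        Sigma.ι (fun _ : Fin (rs i) => O' (js i)) i₀ ≫ ui.inv ≫ P.map (Sigma.ι Ms i ≫ w.inv)
      let prI : mdl f K e G ⟶ O' (js i) :=
        P.map (w.hom ≫ (biproduct.isoCoproduct Ms).inv ≫ biproduct.π Ms i) ≫ ui.hom ≫ Sigma.desc fun _ => 𝟙 _
      have hpr : inI ≫ prI = 𝟙 _ := by
        simp only [inI, prI, Category.assoc]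
        rw [← P.map_comp_assoc, show (Sigma.ι Ms i ≫ w.inv) ≫ w.hom ≫ (biproduct.isoCoproduct Ms).inv ≫
          biproduct.π Ms i = 𝟙 _ by simp [biproduct.isoCoproduct_inv], P.map_id, Category.id_comp,
          Iso.inv_hom_id_assoc, Sigma.ι_desc]
      have hzero := hneg (-js i) (by omega)
      have hsub : Subsingleton (Coh.HH PP (p.obj (O' (js i))) 0) := by
        refine ⟨fun x y => ?_⟩
        have key : ∀ z, CurvLib.hMap (k := K) (p.map prI) 0 (CurvLib.hMap (k := K) (p.map inI) 0 z) = z := fun z => by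
          refine (CurvLib.hMap_comp (k := K) (p.map inI) (p.map prI) 0 z).symm.trans ?_
          rw [← p.map_comp, hpr, p.map_id, CurvLib.hMap_apply, CategoryTheory.Functor.map_id]
          exact Sheaf.H.map_id_apply z
        exact (key x).symm.trans ((congrArg _ (@Subsingleton.elim _ hzero _ _)).trans (key y))
      obtain ⟨a'⟩ := PicPnLib.twist_add m K (-js i) (js i)
      obtain ⟨b⟩ := PicPnLib.twist_zero m K
      haveI := SerreVanLib.subsingleton_HH_of_iso ((a' ≪≫ eqToIso (by rw [neg_add_cancel]) ≪≫ b).symm) 0 hsub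
      haveI := (DegPullLib.e0 (Coh.structureModule PP)).symm.injective.subsingleton
      haveI : IsIntegral PP := PicPnLib.isIntegral_projSpace m K
      exact one_ne_zero (α := Γ(PP, (⊤ : (PP).Opens))) (Subsingleton.elim (α := Γ(Coh.structureModule PP, ⊤)) _ _)
    | succ q ih =>
      intro G hG hneg j hj hvan
      obtain ⟨G₁, hG₁, hneg₁, hvan₁, hmem⟩ := reduce_step f K e hI hm hG hneg hvan
      exact hmem (ih G₁ hG₁ hneg₁ (j + 1) (by omega) hvan₁)

include hI hex in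
theorem gens_eq_top : gens f K e = ⊤ := by
  rw [eq_top_iff]
  rintro x -
  induction x using QuotientAddGroup.induction_on with
  | H z =>
    induction z using FreeAbelianGroup.induction_on with
    | zero => exact (gens f K e).zero_mem
    | of M =>
      rw [← Groth.Agent.KHeartLib.clSub_of (fun M : X.Modules => FlatMod.IsFinLocFree M) M.2]
      exact (mem_gens f K e hI hex M.2).2
    | neg M h => exact (gens f K e).neg_mem h
    | add a b ha hb => exact (gens f K e).add_mem ha hb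

end SBK0
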